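import Cfsg.Agent.H950.War.Crit
import Cfsg.Agent.H140.TC.Cop
import Cfsg.Agent.H809.SelfCentUni
import Cfsg.Agent.H105.SzU2

/-!
# S4173 for `PSU_n(q)` (helper950): the Levi elements with the same irreducible characteristic polynomial are conjugate,
and the criterion with an explicit element
-/

set_option autoImplicit false
set_option linter.unusedSectionVars false

namespace Cfsg.Agent.H950.TC

open Module Polynomial Cfsg.Agent.H951 Matrix Cfsg.Agent.H98.Ore Cfsg.Agent.H950.War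

variable {F V : Type*} [Field F] [Fintype F] [AddCommGroup V] [Module F V] [FiniteDimensional F V]
  {q : ℕ} {σ : F →+* F} {B : V → V → F}

/-- `x` is a Levi element with matrix `Z` on a frame -/
structure Lv (B : V → V → F) {ι : Type} [Fintype ι] [DecidableEq ι] (w w' : ι → V) (Z : Matrix ι ι F)
    (x : V ≃ₗ[F] V) : Prop where
  fr : Fr B w w'
  mem : x ∈ SGr B
  xw : ∀ j, x (w j) = ∑ i, Z i j • w i

/-- reindexing -/
theorem Lv.reindex {ι κ : Type} [Fintype ι] [DecidableEq ι] [Fintype κ] [DecidableEq κ] (e : κ ≃ ι)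
    {w w' : ι → V} {Z : Matrix ι ι F} {x : V ≃ₗ[F] V} (h : Lv B w w' Z x) :
    Lv B (w ∘ e) (w' ∘ e) (Z.submatrix e e) x := by
  refine ⟨⟨fun i j => h.fr.ww _ _, fun i j => ?_, fun i j => h.fr.ww' _ _⟩, h.mem, fun j => ?_⟩
  · show B (w (e i)) (w' (e j)) = _
    rw [h.fr.dual]
    by_cases hij : i = j
    · rw [if_pos hij, if_pos (by rw [hij])]
    · rw [if_neg hij, if_neg (fun h' => hij (e.injective h'))]
  · show x (w (e j)) = _
    rw [h.xw, ← Equiv.sum_comp e]
    rfl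

theorem det_ne_of_irr {m : ℕ} (hm : 0 < m) {Z : Matrix (Fin m) (Fin m) F} (h0 : Z.charpoly.coeff 0 ≠ 0) : Z.det ≠ 0 := by
  rw [Matrix.det_eq_sign_charpoly_coeff]
  exact mul_ne_zero (pow_ne_zero _ (neg_ne_zero.2 one_ne_zero)) h0

/-- **two Levi elements with the same irreducible characteristic polynomial are conjugate** -/
theorem conj_fin (hB : HS q σ B) {e : ℕ} (he : e ≤ 1) {m : ℕ} (hm : 0 < m) (hn : finrank F V = 2 * m + e)
    {w w' v v' : Fin m → V} {Z Z' : Matrix (Fin m) (Fin m) F} {x y : V ≃ₗ[F] V} (hx : Lv B w w' Z x)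
    (hy : Lv B v v' Z' y) (hirr : Irreducible Z'.charpoly) (h0 : Z'.charpoly.coeff 0 ≠ 0)
    (hch : Z.charpoly = Z'.charpoly)
    (hcop : IsCoprime Z'.charpoly (Z'.charpoly.map σ).reverse)
    (hc : e = 1 → Z'.charpoly.eval (σ Z'.det * Z'.det⁻¹) ≠ 0) : ∃ u ∈ SGr B, y = u * x * u⁻¹ := by
  have hn' : finrank F V = 2 * Fintype.card (Fin m) + e := by rw [Fintype.card_fin]; exact hn
  have hZ0 : Z'.det ≠ 0 := det_ne_of_irr hm h0
  obtain ⟨T, hTu, hT⟩ : ∃ T : Matrix (Fin m) (Fin m) F, T.det ≠ 0 ∧ Z * T = T * Z' := by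
    obtain ⟨P, hP, h⟩ := Cfsg.Agent.H962.PP.conj_of_cyc (Cfsg.Agent.H140.TC.cyc_of_irr hm hirr)
      (Cfsg.Agent.H140.TC.cyc_of_irr hm (by rw [hch]; exact hirr)) hch.symm
    refine ⟨P, hP.ne_zero, ?_⟩
    rw [h, mul_assoc, Matrix.nonsing_inv_mul _ hP, mul_one]
  -- the isometry
  obtain ⟨z, hz1, hz2, T', hT', hzv⟩ : ∃ z : End F V, Isom B z ∧ LinearMap.det z = 1 ∧
      ∃ T' : Matrix (Fin m) (Fin m) F, Z * T' = T' * Z' ∧ ∀ j, z (v j) = ∑ i, T' i j • w i := by
    obtain ⟨z, hz, hzv, hzv', hzd⟩ := exists_isom hB he hn' hy.fr (hx.fr.trans hB (ist_dual hB hTu))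
    rcases Nat.le_one_iff_eq_zero_or_eq_one.1 he with h0' | h0'
    · subst h0'
      have hδ := Isom.det_norm hB hz
      rw [hB.sig] at hδ
      obtain ⟨s, hs0, hs⟩ := Cfsg.Agent.H105.SzU.hilbert90 hB.card hδ
      have hmin : minpoly F Z' = Z'.charpoly := by
        have : Nonempty (Fin m) := ⟨⟨0, hm⟩⟩
        have h1 : minpoly F Z' ∣ Z'.charpoly := Matrix.minpoly_dvd_charpoly Z'
        have h2 : ¬ IsUnit (minpoly F Z') := minpoly.not_isUnit F Z'
        have h3 := (hirr.dvd_iff.1 h1).resolve_left h2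
        exact Polynomial.eq_of_monic_of_associated (minpoly.monic (Algebra.IsIntegral.isIntegral Z')) Z'.charpoly_monic
          h3.symm
      obtain ⟨g, hg⟩ := Cfsg.Agent.H809.SelfCent.exists_det_eq hm (M := Z') (by rw [hmin]; exact hirr)
        (by rw [hmin, Matrix.charpoly_natDegree_eq_dim, Fintype.card_fin]) s⁻¹
      set C := aeval Z' g with hC
      have hCdet : C.det ≠ 0 := by rw [hg]; exact inv_ne_zero hs0
      obtain ⟨l, hl, hlv, hlv', -⟩ := exists_isom hB he hn' hy.fr (hy.fr.trans hB (ist_dual hB hCdet))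
      have hld := det_even hB (by rw [hn', add_zero]) hy.fr hl hCdet hlv
      have hcomm : Z' * C = C * Z' := by
        have h1 : Z' * C = aeval Z' (X * g) := by rw [map_mul, aeval_X]
        have h2 : C * Z' = aeval Z' (g * X) := by rw [map_mul, aeval_X]
        rw [h1, h2, mul_comm]
      refine ⟨z * l, fun a b => ?_, ?_, T * C, ?_, fun j => ?_⟩
      · show B (z (l a)) (z (l b)) = _
        rw [hz, hl]
      · rw [map_mul]
        have h1 : LinearMap.det l = s⁻¹ * (σ s⁻¹)⁻¹ := by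
          rw [hg] at hld
          exact (eq_mul_inv_iff_mul_eq₀ ((map_ne_zero σ).2 (inv_ne_zero hs0))).2 hld
        rw [h1, map_inv₀, inv_inv]
        have h2 : σ s ≠ 0 := (map_ne_zero σ).2 hs0
        have h3 : s = LinearMap.det z * σ s := by rw [hB.sig]; exact hs
        calc LinearMap.det z * (s⁻¹ * σ s) = (LinearMap.det z * σ s) * s⁻¹ := by ring
          _ = 1 := by rw [← h3, mul_inv_cancel₀ hs0]
      · rw [← mul_assoc, hT, mul_assoc, hcomm, mul_assoc]
      · show z (l (v j)) = _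
        rw [hlv, map_sum]
        simp only [map_smul, hzv, Finset.smul_sum, smul_smul]
        rw [Finset.sum_comm]
        simp only [← Finset.sum_smul]
        refine Finset.sum_congr rfl fun i _ => ?_
        rw [Matrix.mul_apply]
        congr 1
        exact Finset.sum_congr rfl fun k _ => mul_comm _ _
    · exact ⟨z, hz, hzd h0', T, hT, hzv⟩
  set zz : V ≃ₗ[F] V := LinearEquiv.ofInjectiveEndo z (Isom.inj' hB hz1) with hzdef
  have hz0 : (zz : V →ₗ[F] V) = z := by ext v; rfl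
  have hzm : zz ∈ SGr B := mem_SGr.2 ⟨hz1, by rw [hz0, hz2]⟩
  have hzz : ∀ j, zz (v j) = ∑ i, T' i j • w i := hzv
  have hx' : (zz⁻¹ * x * zz) ∈ SGr B := (SGr B).mul_mem ((SGr B).mul_mem ((SGr B).inv_mem hzm) hx.mem) hzm
  have hxv : ∀ j, (zz⁻¹ * x * zz) (v j) = ∑ i, Z' i j • v i := by
    intro j
    have h1 : x (zz (v j)) = zz (∑ i, Z' i j • v i) := by
      rw [hzz, map_sum, map_sum]
      simp only [map_smul, hx.xw, hzz, Finset.smul_sum, smul_smul]
      rw [Finset.sum_comm]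
      conv_rhs => rw [Finset.sum_comm]
      simp only [← Finset.sum_smul]
      refine Finset.sum_congr rfl fun i _ => ?_
      congr 1
      have h2 := congrFun (congrFun hT' i) j
      rw [Matrix.mul_apply, Matrix.mul_apply] at h2
      calc ∑ k, T' k j * Z i k = ∑ k, Z i k * T' k j := Finset.sum_congr rfl fun k _ => mul_comm _ _
        _ = ∑ k, T' i k * Z' k j := h2
        _ = _ := Finset.sum_congr rfl fun k _ => mul_comm _ _
    show zz⁻¹ (x (zz (v j))) = _
    rw [h1]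
    exact zz.symm_apply_apply _
  have hfw : ∀ j, aeval ((zz⁻¹ * x * zz : V ≃ₗ[F] V) : End F V) Z'.charpoly (v j) = 0 := by
    intro j
    rw [aeval_frame (x := ((zz⁻¹ * x * zz : V ≃ₗ[F] V) : End F V)) hxv, Matrix.aeval_self_charpoly]
    simp
  obtain ⟨u, hu, hyu⟩ := conj_same hB he hn' hy.fr hx' hy.mem hZ0 hxv hy.xw hfw hcop hc
  refine ⟨u * zz⁻¹, (SGr B).mul_mem hu ((SGr B).inv_mem hzm), ?_⟩
  rw [hyu]
  group

/-- the version with an arbitrary index type -/
theorem conj_any {ι : Type} [Fintype ι] [DecidableEq ι] (hB : HS q σ B) {e : ℕ} (he : e ≤ 1) {m : ℕ} (hm : 0 < m)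
    (hn : finrank F V = 2 * m + e) (hι : Fintype.card ι = m)
    {w w' : ι → V} {v v' : Fin m → V} {Z : Matrix ι ι F} {Z' : Matrix (Fin m) (Fin m) F} {x y : V ≃ₗ[F] V}
    (hx : Lv B w w' Z x)
    (hy : Lv B v v' Z' y) (hirr : Irreducible Z'.charpoly) (h0 : Z'.charpoly.coeff 0 ≠ 0)
    (hch : Z.charpoly = Z'.charpoly)
    (hcop : IsCoprime Z'.charpoly (Z'.charpoly.map σ).reverse)
    (hc : e = 1 → Z'.charpoly.eval (σ Z'.det * Z'.det⁻¹) ≠ 0) : ∃ u ∈ SGr B, y = u * x * u⁻¹ := by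
  have e0 : Fin m ≃ ι := (Fintype.equivFinOfCardEq hι).symm
  refine conj_fin hB he hm hn (hx.reindex e0) hy hirr h0 ?_ hcop hc
  rw [← hch]
  exact Matrix.charpoly_reindex e0.symm Z

/-- **the criterion**, with the element -/
theorem criterionC {ι : Type} [Fintype ι] [DecidableEq ι] (hB : HS q σ B) {G : V ≃ₗ[F] V} (hGmem : G ∈ SGr B)
    (hι : finrank F V = 2 * Fintype.card ι ∨ finrank F V = 2 * Fintype.card ι + 1) {P Z h : Matrix ι ι F}
    (hP : Cor B (G : End F V) P) (hPZ : P * Z * h = h * Z) (hh : h.det = 1) (hZ0 : Z.det ≠ 0)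
    (hZ : finrank F V = 2 * Fintype.card ι → σ Z.det = Z.det)
    (h1 : IsCoprime Z.charpoly (Z.charpoly.map σ).reverse)
    (h2 : Z.charpoly.eval (σ Z.det * Z.det⁻¹) ≠ 0) :
    ∃ (w w' : ι → V) (x : V ≃ₗ[F] V), Lv B w w' Z x ∧ ∃ a ∈ SGr B, ∃ b ∈ SGr B, G = a * x * a⁻¹ * (b * x⁻¹ * b⁻¹) := by
  obtain ⟨w, w', hw, hPw⟩ := hP
  obtain ⟨e, he, hn⟩ : ∃ e, e ≤ 1 ∧ finrank F V = 2 * Fintype.card ι + e := by
    rcases hι with h3 | h3
    · exact ⟨0, by norm_num, by omega⟩
    · exact ⟨1, le_rfl, h3⟩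
  have hPZ0 : (P * Z).det ≠ 0 := by
    have h3 := congrArg Matrix.det hPZ
    rw [Matrix.det_mul, Matrix.det_mul h, hh, mul_one, one_mul] at h3
    rw [h3]; exact hZ0
  have hh0 : h.det ≠ 0 := by rw [hh]; exact one_ne_zero
  have hGg : ∀ v, B (G v) = B ((G : End F V) v) := fun v => rfl
  -- the frame for z
  have hfr : Fr B (fun j => ∑ i, Z i j • w i) (fun j => G⁻¹ (∑ i, ist σ (P * Z) i j • w' i)) := by
    have hGG : ∀ v, G (G⁻¹ v) = v := fun v => by
      rw [← LinearEquiv.mul_apply, mul_inv_cancel]; rfl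
    have hg := (mem_SGr.1 hGmem).1
    refine ⟨fun i j => ?_, fun i j => ?_, fun i j => ?_⟩
    · rw [sum_left' hB]
      simp only [sum_right' hB]
      simp [hw.ww]
    · rw [← hg, hGG, map_sum]
      simp only [map_smul]
      rw [sum_left' hB]
      simp only [sum_right' hB]
      have hPw' : ∀ i j, B (G (w j)) (w' i) = P i j := hPw
      simp only [hPw']
      rw [← ist_dual hB hPZ0 i j]
      simp only [Matrix.mul_apply, Finset.sum_mul, Finset.mul_sum]
      rw [Finset.sum_comm]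
      refine Finset.sum_congr rfl fun k _ => Finset.sum_congr rfl fun m _ => ?_
      ring
    · rw [← hg, hGG, hGG, sum_left' hB]
      simp only [sum_right' hB]
      simp [hw.ww']
  -- the isometries
  obtain ⟨z₀, hz, hzw, hzw', hzd⟩ := exists_isom hB he hn hw hfr
  obtain ⟨x, hxm, hxw1, hxw1'⟩ := exists_lev hB he hn hw hZ0 (fun h0 => hZ (by rw [hn, h0, add_zero]))
  obtain ⟨k, hkm, -, hkw1'⟩ := exists_lev hB he hn hw hh0 (fun _ => by rw [hh, map_one])
  have hzd1 : LinearMap.det z₀ = 1 := by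
    rcases Nat.le_one_iff_eq_zero_or_eq_one.1 he with h0 | h0
    · have h3 := det_even hB (by rw [hn, h0, add_zero]) hw hz hZ0 hzw
      rw [hZ (by rw [hn, h0, add_zero])] at h3
      exact mul_right_cancel₀ hZ0 (by rw [h3, one_mul])
    · exact hzd h0
  set z : V ≃ₗ[F] V := LinearEquiv.ofInjectiveEndo z₀ (Isom.inj' hB hz) with hzdef
  have hz0 : (z : V →ₗ[F] V) = z₀ := by ext v; rfl
  have hzm : z ∈ SGr B := mem_SGr.2 ⟨hz, by rw [hz0, hzd1]⟩
  have hzw1 : ∀ j, z (w j) = ∑ i, Z i j • w i := hzw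
  have hzw1' : ∀ j, z (w' j) = G⁻¹ (∑ i, ist σ (P * Z) i j • w' i) := hzw'
  have hfw : ∀ j, aeval (x : End F V) Z.charpoly (w j) = 0 := by
    intro j
    rw [aeval_frame (x := (x : End F V)) hxw1, Matrix.aeval_self_charpoly]
    simp
  obtain ⟨u₁, hu₁, hzu⟩ := conj_same hB he hn hw hxm hzm hZ0 hxw1 hzw1 hfw h1 (fun _ => h2)
  -- the second conjugation
  set y : V ≃ₗ[F] V := k⁻¹ * (G * z) * k with hydef
  have hym : y ∈ SGr B :=
    (SGr B).mul_mem ((SGr B).mul_mem ((SGr B).inv_mem hkm) ((SGr B).mul_mem hGmem hzm)) hkm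
  have hcomp : ∀ (X Y : Matrix ι ι F) (a : V ≃ₗ[F] V), (∀ j, a (w' j) = ∑ i, X i j • w' i) →
      ∀ j, a (∑ i, Y i j • w' i) = ∑ i, (X * Y) i j • w' i := by
    intro X Y a ha j
    rw [map_sum]
    simp only [map_smul, ha, Finset.smul_sum, smul_smul]
    rw [Finset.sum_comm]
    simp only [← Finset.sum_smul]
    refine Finset.sum_congr rfl fun i _ => ?_
    rw [Matrix.mul_apply]
    congr 1
    exact Finset.sum_congr rfl fun k _ => mul_comm _ _
  have hGz : ∀ j, (G * z) (w' j) = ∑ i, ist σ (P * Z) i j • w' i := by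
    intro j
    rw [LinearEquiv.mul_apply, hzw1', ← LinearEquiv.mul_apply, mul_inv_cancel]
    rfl
  have hyw' : ∀ j, y (w' j) = ∑ i, ist σ Z i j • w' i := by
    intro j
    have h3 : k (∑ i, ist σ Z i j • w' i) = (G * z) (k (w' j)) := by
      rw [hcomp _ _ k hkw1', hkw1', hcomp _ _ (G * z) hGz, ← ist_mul, ← ist_mul, hPZ]
    rw [hydef, LinearEquiv.mul_apply, LinearEquiv.mul_apply, ← h3, ← LinearEquiv.mul_apply, inv_mul_cancel]
    rfl
  have hcoeff : Z.charpoly.coeff 0 ≠ 0 := by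
    intro h0
    apply hZ0
    rw [Matrix.det_eq_sign_charpoly_coeff, h0, mul_zero]
  have hxinv : (x : End F V) * ((x⁻¹ : V ≃ₗ[F] V) : End F V) = 1 := by
    ext v
    change x (x⁻¹ v) = v
    rw [← LinearEquiv.mul_apply, mul_inv_cancel]; rfl
  have hxinv' : ((x⁻¹ : V ≃ₗ[F] V) : End F V) * (x : End F V) = 1 := by
    ext v
    change x⁻¹ (x v) = v
    rw [← LinearEquiv.mul_apply, inv_mul_cancel]; rfl
  have hx : Isom B (x : End F V) := (mem_SGr.1 hxm).1
  have hfw' : ∀ j, aeval (x : End F V) (Z.charpoly.map σ).reverse (w' j) = 0 := by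
    intro j
    have h3 := aeval_frame (x := (x : End F V)) (w := w') hxw1' (Z.charpoly.map σ).reverse j
    rw [h3]
    apply Finset.sum_eq_zero
    intro i _
    have h4 : B (aeval (x : End F V) (Z.charpoly.map σ).reverse (w' j)) (w i) = 0 := by
      rw [B_aeval hB (x := (x : End F V)) hx hxinv, map_rev_map hB.ss, aeval_reverse' hxinv', Module.End.mul_apply, hfw, map_zero,
        hB.zero_right]
    rw [h3, sum_left' hB] at h4
    simp only [hw.dual' hB, mul_ite, mul_one, mul_zero, Finset.sum_ite_eq', Finset.mem_univ, if_true] at h4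
    rw [h4, zero_smul]
  have hσZ0 : σ Z.det ≠ 0 := (map_ne_zero σ).2 hZ0
  have hist0 : (ist σ Z).det ≠ 0 := by
    rw [det_ist, map_inv₀]
    exact inv_ne_zero hσZ0
  obtain ⟨u₂, hu₂, hyu⟩ := conj_same hB he hn (hw.swap hB) hxm hym hist0 hxw1' hyw' hfw' (by
    rw [map_rev_map hB.ss, reverse_reverse' hcoeff]
    exact h1.symm) (by
    intro _ h3
    apply h2
    rw [det_ist, map_inv₀, inv_inv, map_inv₀, hB.ss] at h3
    set c := σ Z.det * Z.det⁻¹ with hcdef
    have hc0 : c ≠ 0 := mul_ne_zero hσZ0 (inv_ne_zero hZ0)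
    have h4 : (Z.det)⁻¹ * σ Z.det = c := mul_comm _ _
    rw [h4] at h3
    let _ : Invertible c⁻¹ := invertibleOfNonzero (inv_ne_zero hc0)
    have h5 := eval₂_reverse_eq_zero_iff (RingHom.id F) (c⁻¹) (Z.charpoly.map σ)
    have h6 : (⅟(c⁻¹) : F) = c := by rw [invOf_eq_inv, inv_inv]
    rw [h6, ← eval, h3, eq_self_iff_true, true_iff, ← eval, eval_map] at h5
    have h7 : c⁻¹ = σ c := by
      rw [hcdef, map_mul, map_inv₀, hB.ss, mul_inv, inv_inv, mul_comm]
    rw [h7, eval₂_at_apply] at h5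
    exact (map_eq_zero σ).1 h5)
  -- assemble
  refine ⟨w, w', x, ⟨hw, hxm, hxw1⟩, k * u₂, (SGr B).mul_mem hkm hu₂, u₁, hu₁, ?_⟩
  have h3 : G * z = k * y * k⁻¹ := by rw [hydef]; group
  have h5 : G = (k * y * k⁻¹) * z⁻¹ := by rw [← h3]; group
  rw [h5, hyu, hzu]
  group

end Cfsg.Agent.H950.TC
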