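import Cfsg.Agent.H43.W53.Cls
import Cfsg.Agent.H689.Num

/-!
# S4173 for `PSU_n(q)` (helper950): a polynomial whose roots have prime order `r ≥ 5`
-/

set_option autoImplicit false

namespace Cfsg.Agent.H950.TC

open Module Polynomial Matrix Cfsg.Agent.H117.OrePoly Cfsg.Agent.H950.War Cfsg.Agent.H689

/-- the prime -/
theorem exists_r {q m : ℕ} (hq : 2 ≤ q) (hm : 2 ≤ m) : ∃ r, r.Prime ∧ 5 ≤ r ∧ ¬ r ∣ q ^ 2 - 1 ∧ r ∣ (q ^ 2) ^ m - 1 ∧
    (∀ d, 0 < d → d ∣ m → r ∣ (q ^ 2) ^ d - 1 → d = m) ∧ (∀ j, ¬ r ∣ q ^ (2 * j + 1) + 1) ∧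
    ((Even m ∧ r ∣ q ^ m + 1) ∨ (Odd m ∧ r ∣ q ^ m - 1)) := by
  rcases Nat.even_or_odd m with he | ho
  · obtain ⟨r, hr⟩ := exists_ppd hq (k := 2 * m) (by omega) (by
      rintro ⟨-, h⟩
      obtain ⟨s, hs⟩ := he
      omega)
    have h5 : 5 ≤ r := by
      have := hr.le (by omega)
      omega
    refine ⟨r, hr.prime, h5, ?_, ?_, ?_, ?_, Or.inl ⟨he, hr.dvd_add_one (by omega)⟩⟩
    · rw [hr.iff]
      intro h
      have := Nat.le_of_dvd (by norm_num) h
      omega
    · rw [← pow_mul, hr.iff]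
    · intro d hd hdm h
      rw [← pow_mul, hr.iff] at h
      exact Nat.dvd_antisymm hdm (Nat.dvd_of_mul_dvd_mul_left (by norm_num) h)
    · intro j h
      have h1 : r ∣ q ^ (2 * (2 * j + 1)) - 1 := by
        have h2 : q ^ (2 * (2 * j + 1)) - 1 = (q ^ (2 * j + 1) + 1) * (q ^ (2 * j + 1) - 1) := by
          rw [mul_comm 2, pow_mul]
          have : 1 ≤ q ^ (2 * j + 1) := Nat.one_le_pow _ _ (by omega)
          obtain ⟨a, ha⟩ : ∃ a, q ^ (2 * j + 1) = a + 1 := ⟨q ^ (2 * j + 1) - 1, by omega⟩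
          rw [ha, Nat.add_sub_cancel]
          have : (a + 1) ^ 2 = (a + 1 + 1) * a + 1 := by ring
          omega
        rw [h2]
        exact Dvd.dvd.mul_right h _
      rw [hr.iff] at h1
      have h2 := Nat.dvd_of_mul_dvd_mul_left (by norm_num) h1
      obtain ⟨s, hs⟩ := he
      obtain ⟨t, ht⟩ := h2
      have : 2 * j + 1 = 2 * (s * t) := by rw [ht, hs]; ring
      omega
  · have hm3 : 3 ≤ m := by
      obtain ⟨s, hs⟩ := ho
      omega
    obtain ⟨r, hr⟩ := exists_ppd hq (k := m) hm3 (by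
      rintro ⟨-, h⟩
      obtain ⟨s, hs⟩ := ho
      omega)
    have h5 : 5 ≤ r := by
      have := hr.le_odd hm3 ho
      omega
    have hc : ∀ x, m ∣ 2 * x → m ∣ x := fun x hx =>
      (Nat.Coprime.dvd_of_dvd_mul_left ((Nat.coprime_two_left.2 ho).symm) hx)
    refine ⟨r, hr.prime, h5, ?_, ?_, ?_, ?_, Or.inr ⟨ho, (hr.iff _).2 dvd_rfl⟩⟩
    · rw [hr.iff]
      intro h
      have := Nat.le_of_dvd (by norm_num) h
      omega
    · rw [← pow_mul, hr.iff]
      exact Dvd.intro_left 2 rfl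
    · intro d hd hdm h
      rw [← pow_mul, hr.iff] at h
      exact Nat.dvd_antisymm hdm (hc _ h)
    · intro j h
      have h1 : r ∣ q ^ (2 * (2 * j + 1)) - 1 := by
        have h2 : q ^ (2 * (2 * j + 1)) - 1 = (q ^ (2 * j + 1) + 1) * (q ^ (2 * j + 1) - 1) := by
          rw [mul_comm 2, pow_mul]
          have : 1 ≤ q ^ (2 * j + 1) := Nat.one_le_pow _ _ (by omega)
          obtain ⟨a, ha⟩ : ∃ a, q ^ (2 * j + 1) = a + 1 := ⟨q ^ (2 * j + 1) - 1, by omega⟩
          rw [ha, Nat.add_sub_cancel]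
          have : (a + 1) ^ 2 = (a + 1 + 1) * a + 1 := by ring
          omega
        rw [h2]
        exact Dvd.dvd.mul_right h _
      rw [hr.iff] at h1
      have h2 := (hr.iff _).2 (hc _ h1)
      have h3 : 1 ≤ q ^ (2 * j + 1) := Nat.one_le_pow _ _ (by omega)
      have h4 : r ∣ (q ^ (2 * j + 1) + 1) - (q ^ (2 * j + 1) - 1) := Nat.dvd_sub h h2
      rw [show (q ^ (2 * j + 1) + 1) - (q ^ (2 * j + 1) - 1) = 2 by omega] at h4
      have := Nat.le_of_dvd (by norm_num) h4
      omega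

/-- **The polynomial.** -/
theorem exists_pw_prime {F : Type*} [Field F] [Fintype F] {q : ℕ} (hF : Fintype.card F = q ^ 2) (σ : F →+* F)
    (hσ : ∀ a, σ a = a ^ q) {m : ℕ} (hm : 2 ≤ m) :
    ∃ (r : ℕ) (f : F[X]), r.Prime ∧ 5 ≤ r ∧ PW q σ m 1 f ∧ f ∣ X ^ r - 1 ∧
      ((Even m ∧ r ∣ q ^ m + 1) ∨ f.map σ = f) := by
  classical
  have hq : 2 ≤ q := by
    have h1 : 1 < Fintype.card F := Fintype.one_lt_card
    rw [hF] at h1
    by_contra hcon
    interval_cases q <;> simp at h1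
  obtain ⟨r, hr, hr5, hr1, hrm, hrd, hrj, hre⟩ := exists_r hq hm
  obtain ⟨p, hp⟩ := CharP.exists F
  obtain ⟨n, hpp, hcard⟩ := FiniteField.card F p
  have : Fact p.Prime := ⟨hpp⟩
  have : NeZero m := ⟨by omega⟩
  obtain ⟨k, -, hk⟩ : ∃ k ≤ (n : ℕ), q = p ^ k :=
    (Nat.dvd_prime_pow hpp).1 (by rw [← hcard, hF]; exact dvd_pow_self _ (by norm_num))
  set E := FiniteField.Extension F p m with hE
  have hEcard : Nat.card E = (q ^ 2) ^ m := by
    rw [hE, FiniteField.natCard_extension, Nat.card_eq_fintype_card, hF]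
  have hEfin : finrank F E = m := FiniteField.finrank_extension F p m
  have : FiniteDimensional F E := inferInstance
  have : CharP E p := charP_of_injective_algebraMap (algebraMap F E).injective p
  -- the element of order r
  obtain ⟨η, hη⟩ := IsCyclic.exists_generator (α := Eˣ)
  have hηord : orderOf η = (q ^ 2) ^ m - 1 := by
    rw [orderOf_eq_card_of_forall_mem_zpowers hη, Nat.card_units, hEcard]
  have hpos : 0 < (q ^ 2) ^ m - 1 := by
    have : 1 < (q ^ 2) ^ m := Nat.one_lt_pow (by omega) (by nlinarith)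
    omega
  obtain ⟨N, hN⟩ := hrm
  have hζord : orderOf ((η ^ N : Eˣ) : E) = r := by
    rw [orderOf_units, orderOf_pow, hηord, hN, mul_comm r N, Nat.gcd_mul_right_left]
    rw [Nat.mul_div_cancel_left]
    rcases Nat.eq_zero_or_pos N with h | h
    · rw [h] at hN; omega
    · exact h
  set ζ : E := ((η ^ N : Eˣ) : E) with hζ
  have hζ0 : ζ ≠ 0 := Units.ne_zero _
  have hord : ∀ k : ℕ, ζ ^ k = 1 ↔ r ∣ k := fun k => by rw [← hζord, orderOf_dvd_iff_pow_eq_one]
  have hζr : ζ ^ r = 1 := (hord r).2 dvd_rfl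
  have hint : IsIntegral F ζ := Algebra.IsIntegral.isIntegral ζ
  -- the degree
  have hdeg : (minpoly F ζ).natDegree = m := by
    set K := IntermediateField.adjoin F {ζ} with hK
    have h1 : finrank F K = (minpoly F ζ).natDegree := IntermediateField.adjoin.finrank hint
    have h2 : finrank F K * finrank K E = m := by rw [finrank_mul_finrank, hEfin]
    have h3 : Nat.card K = (q ^ 2) ^ finrank F K := by
      rw [Module.natCard_eq_pow_finrank (K := F), Nat.card_eq_fintype_card, hF]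
    have h4 : r ∣ ((q ^ 2) ^ finrank F K - 1) := by
      rw [← hord, ← h3]
      have := Fintype.ofFinite K
      have h5 : (⟨ζ, IntermediateField.mem_adjoin_simple_self F ζ⟩ : K) ^ (Nat.card K - 1) = 1 := by
        rw [Nat.card_eq_fintype_card]
        exact FiniteField.pow_card_sub_one_eq_one _ (by
          intro h; exact hζ0 (congrArg Subtype.val h))
      exact congrArg Subtype.val h5
    rw [← h1]
    exact hrd _ finrank_pos ⟨_, h2.symm⟩ h4
  -- the roots
  have hroot : ∀ θ : E, aeval θ (minpoly F ζ) = 0 → ∃ j < m, θ = ζ ^ (q ^ 2) ^ j := by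
    intro θ hθ
    obtain ⟨τ, hτ⟩ := minpoly.exists_algEquiv_of_root' (hint.isAlgebraic) hθ
    obtain ⟨i, hi, hiτ⟩ := FiniteField.Extension.exists_frob_pow_eq F p m τ
    refine ⟨i, hi, ?_⟩
    rw [← hτ, ← hiτ, FiniteField.Extension.frob_iterate_apply, Nat.card_eq_fintype_card, hF]
  -- elements of F of order r
  have hFr : ∀ a : F, a ^ r = 1 → a = 1 := by
    intro a ha
    have ha0 : a ≠ 0 := by
      rintro rfl
      rw [zero_pow (by omega)] at ha
      exact zero_ne_one ha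
    have h1 := FiniteField.pow_card_sub_one_eq_one a ha0
    rw [hF] at h1
    have h2 : orderOf a ∣ Nat.gcd r (q ^ 2 - 1) :=
      Nat.dvd_gcd (orderOf_dvd_of_pow_eq_one ha) (orderOf_dvd_of_pow_eq_one h1)
    rw [(Nat.Prime.coprime_iff_not_dvd hr).2 hr1] at h2
    exact orderOf_eq_one_iff.1 (Nat.dvd_one.1 h2)
  -- the constant term
  have hc0 : σ ((minpoly F ζ).coeff 0) = (minpoly F ζ).coeff 0 := by
    have h1 := coeff_zero_eq (F := F) (x := ζ) (by rw [hdeg, hEfin])
    have h3 : Algebra.norm F ζ = 1 := by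
      apply hFr
      rw [← map_pow, hζr, map_one]
    rw [h3] at h1
    have h5 := congrArg σ h1
    rw [map_one, map_mul, map_pow, map_neg, map_one] at h5
    exact mul_left_cancel₀ (pow_ne_zero _ (neg_ne_zero.2 one_ne_zero)) (h5.symm.trans h1)
  have hdvd : minpoly F ζ ∣ X ^ r - 1 := by
    apply minpoly.dvd
    rw [map_sub, map_pow, aeval_X, map_one, hζr, sub_self]
  let φ : E →+* E := iterateFrobenius E p k
  have hφ : ∀ x, φ x = x ^ q := fun x => by rw [hk]; exact iterateFrobenius_def p k x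
  have hcomp : (algebraMap F E).comp σ = φ.comp (algebraMap F E) := by
    ext a
    simp [hφ, hσ]
  refine ⟨r, minpoly F ζ, hr, hr5, ⟨minpoly.irreducible hint, minpoly.monic hint, hdeg, hc0, ?_, ?_, ?_⟩, hdvd, ?_⟩
  rotate_left 3
  · -- the conjugate polynomial
    rcases hre with h | ⟨ho, h⟩
    · exact Or.inl h
    right
    obtain ⟨s, hs⟩ := ho
    have h1 : ζ ^ q ^ m = ζ := by
      have h2 : ζ ^ (q ^ m - 1) = 1 := (hord _).2 h
      have h3 : 1 ≤ q ^ m := Nat.one_le_pow _ _ (by omega)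
      calc ζ ^ q ^ m = ζ ^ (q ^ m - 1 + 1) := by rw [Nat.sub_add_cancel h3]
        _ = ζ := by rw [pow_succ, h2, one_mul]
    -- `ζ ^ q` is a root of `minpoly F ζ`
    have h2 : aeval (ζ ^ q) (minpoly F ζ) = 0 := by
      have h3 : ζ ^ q = ζ ^ (Nat.card F) ^ (s + 1) := by
        rw [Nat.card_eq_fintype_card, hF, ← pow_mul, show 2 * (s + 1) = m + 1 by omega, pow_succ, pow_mul, h1]
      rw [h3, ← FiniteField.Extension.frob_iterate_apply F p m, Polynomial.aeval_algHom_apply, minpoly.aeval, map_zero]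
    -- `ζ ^ q` is a root of the conjugate
    have h4 : aeval (ζ ^ q) ((minpoly F ζ).map σ) = 0 := by
      rw [aeval_def, eval₂_map, hcomp, ← hφ, ← hom_eval₂, ← aeval_def, minpoly.aeval, map_zero]
    have hint' : IsIntegral F (ζ ^ q) := Algebra.IsIntegral.isIntegral _
    have e1 : minpoly F (ζ ^ q) = minpoly F ζ :=
      (minpoly.eq_of_irreducible_of_monic (minpoly.irreducible hint) h2 (minpoly.monic hint)).symm
    have h5 : minpoly F (ζ ^ q) ∣ (minpoly F ζ).map σ := minpoly.dvd _ _ h4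
    rw [e1] at h5
    apply Polynomial.eq_of_monic_of_dvd_of_natDegree_le (minpoly.monic hint) ((minpoly.monic hint).map σ) h5
    rw [(minpoly.monic hint).natDegree_map]
  · -- coprime to the reverse
    rw [(minpoly.irreducible hint).coprime_iff_not_dvd]
    intro hdv
    have h1 : aeval ζ (((minpoly F ζ).map σ).reverse) = 0 := by
      obtain ⟨g, hg⟩ := hdv
      rw [hg, map_mul, minpoly.aeval, zero_mul]
    let _ : Invertible (ζ⁻¹) := invertibleOfNonzero (inv_ne_zero hζ0)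
    have h2 : aeval ζ⁻¹ ((minpoly F ζ).map σ) = 0 := by
      have h3 := eval₂_reverse_eq_zero_iff (algebraMap F E) ζ⁻¹ ((minpoly F ζ).map σ)
      rw [invOf_eq_inv, inv_inv] at h3
      exact h3.1 h1
    obtain ⟨θ, hθ⟩ : ∃ θ, φ θ = ζ⁻¹ := (Finite.injective_iff_surjective.1 φ.injective) _
    have h4 : aeval θ (minpoly F ζ) = 0 := by
      apply φ.injective
      rw [map_zero, ← h2, aeval_def, aeval_def, eval₂_map, hcomp, ← hθ, hom_eval₂]
    obtain ⟨j, hj, hjθ⟩ := hroot θ h4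
    have h5 : ζ ^ ((q ^ 2) ^ j * q + 1) = 1 := by
      rw [pow_succ, pow_mul, ← hjθ, ← hφ, hθ, inv_mul_cancel₀ hζ0]
    have h6 := (hord _).1 h5
    rw [← pow_mul, ← pow_succ] at h6
    exact hrj j h6
  · -- scaling
    intro l hl hlm hl1 hcon
    have h1 := scaleRoots_aeval_eq_zero (R := F) (A := E) (p := minpoly F ζ) (a := ζ) (r := l)
      (minpoly.aeval F ζ)
    rw [hcon] at h1
    obtain ⟨j, hj, hjl⟩ := hroot _ h1
    have hpos : 1 ≤ (q ^ 2) ^ j := Nat.one_le_pow _ _ (by positivity)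
    have h2 : algebraMap F E l = ζ ^ ((q ^ 2) ^ j - 1) := by
      apply mul_right_cancel₀ hζ0
      rw [hjl, ← pow_succ, Nat.sub_add_cancel hpos]
    apply hl1
    apply hFr
    apply (algebraMap F E).injective
    rw [map_pow, h2, map_one, ← pow_mul, mul_comm, pow_mul, hζr, one_pow]
  · -- roots of matrices
    intro ι _ _ Z hZ
    have hZr : Z ^ r = 1 := by
      obtain ⟨g, hg⟩ := hdvd
      have h1 : aeval Z (X ^ r - 1 : F[X]) = 0 := by
        rw [hg, ← hZ, map_mul, Matrix.aeval_self_charpoly, zero_mul]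
      rw [map_sub, map_pow, aeval_X, map_one] at h1
      exact sub_eq_zero.1 h1
    refine ⟨Z, (pow_one Z).symm, ?_, ?_⟩
    · rw [Matrix.det_eq_sign_charpoly_coeff, hZ, map_mul, map_pow, map_neg, map_one, hc0]
    · rw [pow_mul, hN, pow_mul, hZr, one_pow]

end Cfsg.Agent.H950.TC
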