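import Cfsg.Agent.H950.War.RowB
import Cfsg.Agent.H950.TC.Conj
import Cfsg.Agent.H950.TC.Poly
import Cfsg.Agent.H140.TC.Fam
import Cfsg.Agent.H494.TC.Base
import Cfsg.Agent.H210.TC.Row
import Cfsg.Agent.S0283
import Mathlib.LinearAlgebra.Matrix.Charpoly.FiniteField

/-!
# S4173 for `PSU_n(q)`, `n ≥ 3` (helper950)

`tc_psu` : two classes of `PSU_n(q)` whose product covers all nonidentity elements, `n ≥ 3`, `(n, q) ≠ (3, 2)`.
`tc6_psu` : `n ≥ 4`: with elements of prime order `r ≥ 5`.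
`pp_psu`, `row3_psu` : `n ≥ 4`: one (real) class of elements of prime order `r ≥ 5`.
-/

set_option autoImplicit false
set_option linter.unusedSectionVars false

namespace Cfsg.Agent.H950.TC

open Cfsg Module Polynomial Cfsg.Agent.H951 Matrix Cfsg.Agent.H98.Ore Cfsg.Agent.H950.War Cfsg.Agent.H951.OreU
  Cfsg.Agent.H984.Ore
open Cfsg.Agent.LieClassical.HermBasic
open Cfsg.Agent.H140.TC (TC)

section geo

variable {F V : Type*} [Field F] [Fintype F] [AddCommGroup V] [Module F V] [FiniteDimensional F V]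
  {q : ℕ} {σ : F →+* F} {B : V → V → F}

/-- all nonscalar elements are in the product of the classes of `x₀` and `x₀⁻¹` -/
def Cov (B : V → V → F) (x₀ : V ≃ₗ[F] V) : Prop :=
  x₀ ∈ SGr B ∧ ∀ g ∈ SGr B, (∀ c : F, (g : End F V) ≠ c • (1 : End F V)) →
    ∃ a ∈ SGr B, ∃ b ∈ SGr B, g = a * x₀ * a⁻¹ * (b * x₀⁻¹ * b⁻¹)

/-- non-scalar elements fit -/
theorem fit_of_not_scalar (hB : HS q σ B) {m e : ℕ} (hm : 2 ≤ m)
    (hn : finrank F V = 2 * m ∨ finrank F V = 2 * m + 1) {f : F[X]}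
    (hf : PW q σ m e f) {g : V ≃ₗ[F] V} (hgS : g ∈ SGr B)
    (hs : ∀ c : F, (g : End F V) ≠ c • (1 : End F V)) : Fit B f g := by
  obtain ⟨hg, hdet⟩ := mem_SGr.1 hgS
  have hg : Isom B (g : End F V) := hg
  have h4 : 4 ≤ finrank F V := by omega
  by_cases h1 : ∃ c : F, finrank F (LinearMap.range ((g : End F V) - c • (1 : End F V))) = 1
  · obtain ⟨c, hc⟩ := h1
    exact fit_rank_one hB hm hn hf hgS hc
  push Not at h1
  have hr : ∀ c : F, 2 ≤ finrank F (LinearMap.range ((g : End F V) - c • (1 : End F V))) := by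
    intro c
    by_contra hcon
    have h5 : finrank F (LinearMap.range ((g : End F V) - c • (1 : End F V))) = 0 := by
      have := h1 c
      omega
    have h6 := Submodule.finrank_eq_zero.1 h5
    rw [LinearMap.range_eq_bot, sub_eq_zero] at h6
    exact hs c h6
  apply fit_of_good hB hm hn hf
  obtain ⟨w, U, g₁, b, hst, h2 | ⟨h2, c, hc1, hc2⟩⟩ := Cfsg.Agent.H954.OreB.exists_good_step hB hg hdet h4 hr
  · rcases Nat.even_or_odd' (finrank F V) with ⟨m, hm | hm⟩
    · exact Cfsg.Agent.H801.Ore.good_even hB hg hdet hm hst h2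
    · exact Cfsg.Agent.H984.OreFinal.good_odd hB hg hm hst h2
  · exact good_four hB hg hdet h2 hst hc1 hc2

/-- **`n ≥ 4`** -/
theorem exists_cov (hB : HS q σ B) {m : ℕ} (hm : 2 ≤ m) (hn : finrank F V = 2 * m ∨ finrank F V = 2 * m + 1) :
    ∃ (r : ℕ) (x₀ : V ≃ₗ[F] V), r.Prime ∧ 5 ≤ r ∧ x₀ ^ r = 1 ∧ (∃ u ∈ SGr B, x₀⁻¹ = u * x₀ * u⁻¹) ∧ Cov B x₀ := by
  obtain ⟨r, f, hr, hr5, hf, hfr, hre⟩ := exists_pw_prime hB.card σ hB.sig hm
  obtain ⟨e, he, hne⟩ : ∃ e, e ≤ 1 ∧ finrank F V = 2 * m + e := by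
    rcases hn with h | h
    · exact ⟨0, by norm_num, by omega⟩
    · exact ⟨1, le_rfl, h⟩
  have hne' : finrank F V = 2 * Fintype.card (Fin m) + e := by rw [Fintype.card_fin]; exact hne
  obtain ⟨v, v', hv⟩ := exists_fr m hB (by omega)
  obtain ⟨Z, hZ⟩ := exists_matrix (ι := Fin m) hf.monic (by rw [hf.deg, Fintype.card_fin])
  have h0 : Z.charpoly.coeff 0 ≠ 0 := by
    rw [hZ, Polynomial.coeff_zero_eq_eval_zero]
    exact eval_ne hf hm 0
  have hZ0 := det_ne_of_irr (by omega) h0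
  have hZσ : σ Z.det = Z.det := by
    rw [Matrix.det_eq_sign_charpoly_coeff, hZ, map_mul, map_pow, map_neg, map_one, hf.c0]
  obtain ⟨x₀, hxm, hxw, hxw'⟩ := exists_lev hB he hne' hv hZ0 (fun _ => hZσ)
  have hZr : Z ^ r = 1 := by
    obtain ⟨g, hg⟩ := hfr
    have h1 : aeval Z (X ^ r - 1 : F[X]) = 0 := by
      rw [hg, ← hZ, map_mul, Matrix.aeval_self_charpoly, zero_mul]
    rw [map_sub, map_pow, aeval_X, map_one] at h1
    exact sub_eq_zero.1 h1
  refine ⟨r, x₀, hr, hr5, ?_, ?_, hxm, fun g hg hs => ?_⟩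
  rotate_left 1
  · -- `x₀` is real
    have hZu : IsUnit Z.det := isUnit_iff_ne_zero.2 hZ0
    have hinv : ∀ {w : Fin m → V} {Y : Matrix (Fin m) (Fin m) F}, IsUnit Y.det → (∀ j, x₀ (w j) = ∑ i, Y i j • w i) →
        ∀ j, x₀⁻¹ (w j) = ∑ i, Y⁻¹ i j • w i := by
      intro w Y hY hw j
      have h1 : x₀ (∑ i, Y⁻¹ i j • w i) = w j := by
        rw [map_sum]
        simp only [map_smul, hw, Finset.smul_sum, smul_smul]
        rw [Finset.sum_comm]
        simp only [← Finset.sum_smul]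
        have h2 : ∀ i, ∑ k, Y⁻¹ k j * Y i k = if i = j then 1 else 0 := by
          intro i
          have h3 := congrFun (congrFun (Matrix.mul_nonsing_inv Y hY) i) j
          rw [Matrix.mul_apply, Matrix.one_apply] at h3
          rw [← h3]
          exact Finset.sum_congr rfl fun k _ => mul_comm _ _
        simp only [h2, ite_smul, one_smul, zero_smul, Finset.sum_ite_eq', Finset.mem_univ, if_true]
      conv_lhs => rw [← h1]
      exact x₀.symm_apply_apply _
    rcases hre with ⟨hev, hd⟩ | hfσ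
    · -- `m` even
      obtain ⟨s, hs⟩ := hev
      have h1 : Z⁻¹ = Z ^ Fintype.card F ^ s := by
        have h2 : Z ^ (q ^ m + 1) = 1 := by
          obtain ⟨t, ht⟩ := hd
          rw [ht, pow_mul, hZr, one_pow]
        have h3 : Fintype.card F ^ s = q ^ m := by rw [hB.card, ← pow_mul, show 2 * s = m by omega]
        rw [h3]
        apply Matrix.inv_eq_right_inv
        rw [← pow_succ']
        exact h2
      have h2 : ∀ t : ℕ, (Z ^ Fintype.card F ^ t).charpoly = Z.charpoly := by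
        intro t
        induction t with
        | zero => rw [pow_zero, pow_one]
        | succ t ih => rw [pow_succ, pow_mul, FiniteField.Matrix.charpoly_pow_card, ih]
      have hlv : Lv B v v' Z⁻¹ x₀⁻¹ := ⟨hv, (SGr B).inv_mem hxm, hinv hZu hxw⟩
      have h3 : Z⁻¹.charpoly = Z.charpoly := by rw [h1, h2]
      obtain ⟨u, hu, hxu⟩ := conj_fin hB he (by omega) hne hlv ⟨hv, hxm, hxw⟩ (by rw [hZ]; exact hf.irr) h0
        h3 (by rw [hZ]; exact hf.cop) (fun _ => by rw [hZ]; exact eval_ne hf hm _)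
      refine ⟨u⁻¹, (SGr B).inv_mem hu, ?_⟩
      conv_rhs => rw [hxu]
      group
    · -- the conjugate polynomial
      have hd1 : (ist σ Z).det ≠ 0 := by
        rw [det_ist, map_inv₀]
        exact inv_ne_zero ((map_ne_zero σ).2 hZ0)
      have h1 : (ist σ Z)⁻¹ = (σ.mapMatrix Z)ᵀ := by
        have h2 : ist σ Z = (σ.mapMatrix Z⁻¹)ᵀ := by ext i j; rfl
        apply Matrix.inv_eq_right_inv
        rw [h2, ← Matrix.transpose_mul, ← map_mul, Matrix.mul_nonsing_inv _ hZu, map_one, Matrix.transpose_one]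
      have h3 : ((ist σ Z)⁻¹).charpoly = Z.charpoly := by
        rw [h1, Matrix.charpoly_transpose, RingHom.mapMatrix_apply, Matrix.charpoly_map, hZ, hfσ]
      have hlv : Lv B v' v (ist σ Z)⁻¹ x₀⁻¹ :=
        ⟨hv.swap hB, (SGr B).inv_mem hxm, hinv (isUnit_iff_ne_zero.2 hd1) hxw'⟩
      obtain ⟨u, hu, hxu⟩ := conj_fin hB he (by omega) hne hlv ⟨hv, hxm, hxw⟩ (by rw [hZ]; exact hf.irr) h0
        h3 (by rw [hZ]; exact hf.cop) (fun _ => by rw [hZ]; exact eval_ne hf hm _)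
      refine ⟨u⁻¹, (SGr B).inv_mem hu, ?_⟩
      conv_rhs => rw [hxu]
      group
  rotate_left 1
  · refine fix_one hB he hne' hv ((SGr B).pow_mem hxm r) (fun j => ?_) (fun j => ?_)
    · rw [pow_frame hxw, hZr]
      simp [Matrix.one_apply]
    · rw [pow_frame hxw', ← ist_pow hB, hZr, ist_one hB]
      simp [Matrix.one_apply]
  · obtain ⟨ι, _, _, P, Z', h, hcard, hcor, hZ', hh, hPZ⟩ := fit_of_not_scalar hB hm hn hf hg hs
    have hι : Fintype.card ι = m := by omega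
    have hd0 : Z'.det ≠ 0 := by
      rw [Matrix.det_eq_sign_charpoly_coeff, hZ', ← hZ]
      exact mul_ne_zero (pow_ne_zero _ (neg_ne_zero.2 one_ne_zero)) h0
    have hdσ : σ Z'.det = Z'.det := by
      rw [Matrix.det_eq_sign_charpoly_coeff, hZ', map_mul, map_pow, map_neg, map_one, hf.c0]
    obtain ⟨w, w', x, hx, a, ha, b, hb, hG⟩ := criterionC hB hg hcard hcor hPZ hh hd0 (fun _ => hdσ)
      (by rw [hZ']; exact hf.cop) (by rw [hZ']; exact eval_ne hf hm _)
    obtain ⟨u, hu, hxu⟩ := conj_any hB he (by omega) hne hι hx ⟨hv, hxm, hxw⟩ (by rw [hZ]; exact hf.irr) h0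
      (by rw [hZ, hZ']) (by rw [hZ]; exact hf.cop) (fun _ => by rw [hZ]; exact eval_ne hf hm _)
    refine ⟨a * u⁻¹, (SGr B).mul_mem ha ((SGr B).inv_mem hu), b * u⁻¹, (SGr B).mul_mem hb ((SGr B).inv_mem hu), ?_⟩
    rw [hG, hxu]
    group

/-- **`n = 3`** -/
theorem exists_cov_three (hB : HS q σ B) (hq : 3 ≤ q) (hn : finrank F V = 3) : ∃ x₀ : V ≃ₗ[F] V, Cov B x₀ := by
  -- the generator
  obtain ⟨η, hη⟩ := IsCyclic.exists_generator (α := Fˣ)
  have hηord : orderOf η = q ^ 2 - 1 := by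
    rw [orderOf_eq_card_of_forall_mem_zpowers hη, Nat.card_units, Nat.card_eq_fintype_card, hB.card]
  obtain ⟨x, hx⟩ : ∃ x0 : F, x0 = (η : F) := ⟨_, rfl⟩
  have hord : ∀ k : ℕ, x ^ k = 1 → q ^ 2 - 1 ∣ k := by
    intro k hk
    rw [← hηord]
    apply orderOf_dvd_of_pow_eq_one
    apply Units.ext
    rw [Units.val_pow_eq_pow_val, ← hx, hk, Units.val_one]
  have hx0 : x ≠ 0 := by rw [hx]; exact η.ne_zero
  have hq2 : q ^ 2 - 1 = (q - 1) * (q + 1) := by
    obtain ⟨r, rfl⟩ : ∃ r, q = r + 1 := ⟨q - 1, by omega⟩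
    have : (r + 1) ^ 2 = r * (r + 1 + 1) + 1 := by ring
    rw [this]; simp
  have hx1 : x ^ (q + 1) ≠ 1 := by
    intro h1
    have h2 := Nat.le_of_dvd (by omega) (hord _ h1)
    rw [hq2] at h2
    have h4 : (q - 1) * (q + 1) ≤ 1 * (q + 1) := by rw [one_mul]; exact h2
    have h5 := Nat.le_of_mul_le_mul_right h4 (by omega)
    omega
  have hx2 : x ^ q ≠ x ^ 2 := by
    intro h1
    have h2 : x ^ (q - 2) = 1 := by
      apply mul_right_cancel₀ (pow_ne_zero 2 hx0)
      rw [← pow_add, one_mul, Nat.sub_add_cancel (by omega), h1]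
    have h3 := Nat.le_of_dvd (by omega) (hord _ h2)
    rw [hq2] at h3
    have h4 : 1 * (q + 1) ≤ (q - 1) * (q + 1) := Nat.mul_le_mul_right _ (by omega)
    omega
  have hσx : σ x ≠ 0 := (map_ne_zero σ).2 hx0
  have hcopx : IsCoprime (X - C x : F[X]) ((X - C x : F[X]).map σ).reverse := by
    have h1 : ((X - C x : F[X]).map σ).reverse = C (-σ x) * (X - C (σ x)⁻¹) := by
      rw [Polynomial.map_sub, Polynomial.map_X, Polynomial.map_C]
      ext i
      rw [Polynomial.coeff_reverse, Polynomial.natDegree_X_sub_C, Polynomial.coeff_C_mul, Polynomial.coeff_sub,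
        Polynomial.coeff_sub]
      rcases i with _ | _ | i
      · rw [Polynomial.revAt_le (by omega)]
        simp [hσx]
      · rw [Polynomial.revAt_le (by omega)]
        simp
      · rw [Polynomial.revAt_eq_self_of_lt (by omega)]
        simp [Polynomial.coeff_X, Polynomial.coeff_C]
    rw [h1]
    have h2 : IsUnit (C (-σ x) : F[X]) := Polynomial.isUnit_C.2 (isUnit_iff_ne_zero.2 (neg_ne_zero.2 hσx))
    rw [isCoprime_mul_unit_left_right h2]
    apply Polynomial.isCoprime_X_sub_C_of_isUnit_sub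
    rw [isUnit_iff_ne_zero, sub_ne_zero]
    intro h3
    apply hx1
    calc x ^ (q + 1) = σ x * x := by rw [pow_succ, ← hB.sig]
      _ = σ x * (σ x)⁻¹ := by rw [← h3]
      _ = 1 := mul_inv_cancel₀ hσx
  have hev : (X - C x : F[X]).eval (σ x * x⁻¹) ≠ 0 := by
    rw [Polynomial.eval_sub, Polynomial.eval_X, Polynomial.eval_C, hB.sig]
    intro h1
    apply hx2
    have h2 : x ^ q * x⁻¹ = x := sub_eq_zero.1 h1
    calc x ^ q = x ^ q * x⁻¹ * x := by rw [inv_mul_cancel_right₀ hx0]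
      _ = x ^ 2 := by rw [h2, pow_two]
  -- diagonal matrices with one entry
  have hdet : ∀ {ι : Type} [Fintype ι] [DecidableEq ι], Fintype.card ι = 1 →
      (Matrix.diagonal (fun _ : ι => x)).det = x := by
    intro ι _ _ h1
    rw [Matrix.det_diagonal, Finset.prod_const, Finset.card_univ, h1, pow_one]
  have hcp : ∀ {ι : Type} [Fintype ι] [DecidableEq ι], Fintype.card ι = 1 →
      (Matrix.diagonal (fun _ : ι => x)).charpoly = X - C x := by
    intro ι _ _ h1
    rw [Matrix.charpoly_diagonal, Finset.prod_const, Finset.card_univ, h1, pow_one]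
  have hne' : finrank F V = 2 * Fintype.card (Fin 1) + 1 := by rw [Fintype.card_fin, hn]
  obtain ⟨v, v', hv⟩ := exists_fr 1 hB (by omega)
  have hf1 : Fintype.card (Fin 1) = 1 := Fintype.card_fin 1
  obtain ⟨x₀, hxm, hxw, hxw'⟩ := exists_lev hB le_rfl hne' hv (Z := Matrix.diagonal (fun _ : Fin 1 => x))
    (by rw [hdet hf1]; exact hx0) (fun h => absurd h one_ne_zero)
  refine ⟨x₀, hxm, fun g hg hs => ?_⟩
  have hgi : Isom B (g : End F V) := (mem_SGr.1 hg).1
  obtain ⟨w, hw, hgw⟩ := exists_typeI hB hgi hs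
  obtain ⟨U, g₁, b, h⟩ := exists_step hB hgi hw hgw
  obtain ⟨hU, hfr⟩ := Step.hs hB hgi h
  obtain ⟨R, -, hR⟩ := Cfsg.Agent.H24.Ore.cor_step_odd hB hgi h (κ := Empty) (P₁ := 0)
    (by rw [Fintype.card_empty]; omega)
    ⟨Empty.elim, Empty.elim, ⟨fun i => i.elim, fun i => i.elim, fun i => i.elim⟩, fun i => i.elim⟩ 1
  have hP : Matrix.fromBlocks (Matrix.of fun (_ _ : Unit) => (1 : F)) R 0 (0 : Matrix Empty Empty F) = 1 := by
    ext i j
    rcases i with i | i
    · rcases j with j | j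
      · rw [Matrix.fromBlocks_apply₁₁, Subsingleton.elim j i, Matrix.one_apply_eq]
        rfl
      · exact j.elim
    · exact i.elim
  rw [hP] at hR
  have hu1 : Fintype.card (Unit ⊕ Empty) = 1 := rfl
  obtain ⟨w, w', y, hy, a, ha, b, hb, hG⟩ := criterionC hB hg (ι := Unit ⊕ Empty) (Or.inr (by rw [hn]; rfl)) (P := 1)
    (Z := Matrix.diagonal (fun _ : Unit ⊕ Empty => x)) (h := 1) hR
    (by rw [one_mul, mul_one]) Matrix.det_one (by rw [hdet hu1]; exact hx0) (fun h2 => by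
      exfalso
      rw [hn, hu1] at h2
      omega) (by rw [hcp hu1]; exact hcopx) (by rw [hcp hu1, hdet hu1]; exact hev)
  obtain ⟨u, hu, hxu⟩ := conj_any hB le_rfl one_pos (by omega) hu1 hy ⟨hv, hxm, hxw⟩
    (by rw [hcp hf1]; exact Polynomial.irreducible_X_sub_C x) (by rw [hcp hf1]; simpa using hx0)
    (by rw [hcp hf1, hcp hu1]) (by rw [hcp hf1]; exact hcopx) (fun _ => by rw [hcp hf1, hdet hf1]; exact hev)
  refine ⟨a * u⁻¹, (SGr B).mul_mem ha ((SGr B).inv_mem hu), b * u⁻¹, (SGr B).mul_mem hb ((SGr B).inv_mem hu), ?_⟩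
  rw [hG, hxu]
  group

end geo

section grp

open Cfsg.Agent.ClassicalGeometry.PSUAutBasic (pr pr_surjective pr_eq_one_iff)

universe u

variable {F : Type u} [Field F] [Fintype F] {q : ℕ}

/-- passage to `PSU` -/
theorem pair_of_cov {n : ℕ} {x₀ : (Fin n → F) ≃ₗ[F] (Fin n → F)} (h : Cov (hermForm n F q) x₀) :
    ∃ x : SU n F q, psi n F q x = x₀ ∧ ∀ g : PSU n F q, g ≠ 1 →
      ∃ u v : PSU n F q, g = (u * pr n F q x * u⁻¹) * (v * pr n F q x⁻¹ * v⁻¹) := by
  obtain ⟨x, hx⟩ := exists_psi h.1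
  refine ⟨x, hx, fun g hg => ?_⟩
  obtain ⟨g, rfl⟩ := pr_surjective g
  have hs : ∀ c : F, ((psi n F q g : (Fin n → F) ≃ₗ[F] (Fin n → F)) : End F (Fin n → F)) ≠
      c • (1 : End F (Fin n → F)) := fun c hc => hg (pr_eq_one_iff.2 (mem_center_of_scalar hc))
  obtain ⟨a, ha, b, hb, hG⟩ := h.2 _ (psi_mem g) hs
  obtain ⟨a, rfl⟩ := exists_psi ha
  obtain ⟨b, rfl⟩ := exists_psi hb
  refine ⟨pr n F q a, pr n F q b, ?_⟩
  have h1 : g = (a * x * a⁻¹) * (b * x⁻¹ * b⁻¹) := by
    apply psi_injective (F := F) (q := q) n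
    rw [hG, ← hx]
    simp only [map_mul, map_inv]
  conv_lhs => rw [h1]
  simp only [map_mul, map_inv]

/-- **`PSU_n(q)`, `n ≥ 4`, elements of prime order `r ≥ 5`** -/
theorem tc6_psu (hF : Fintype.card F = q ^ 2) {n : ℕ} (hn : 4 ≤ n) :
    ∃ x y : PSU n F q, Nat.Coprime (orderOf x) 6 ∧ Nat.Coprime (orderOf y) 6 ∧
      ∀ g : PSU n F q, g ≠ 1 → ∃ u v : PSU n F q, g = (u * x * u⁻¹) * (v * y * v⁻¹) := by
  have hB := hs_herm hF n
  have hfr : finrank F (Fin n → F) = n := Module.finrank_fin_fun F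
  obtain ⟨r, x₀, hr, hr5, hxr, -, hc⟩ := exists_cov hB (m := n / 2) (by omega) (by rw [hfr]; omega)
  obtain ⟨x, hx, h⟩ := pair_of_cov hc
  have h6 : Nat.Coprime r 6 := by
    rw [Nat.Prime.coprime_iff_not_dvd hr]
    intro hd
    have h1 := Nat.le_of_dvd (by norm_num) hd
    interval_cases r
    · omega
    · exact absurd hr (by norm_num)
  have hxr' : x ^ r = 1 := by
    apply psi_injective (F := F) (q := q) n
    rw [map_pow, hx, hxr, map_one]
  refine ⟨_, _, ?_, ?_, h⟩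
  · apply Nat.Coprime.coprime_dvd_left _ h6
    apply orderOf_dvd_of_pow_eq_one
    rw [← map_pow, hxr', map_one]
  · apply Nat.Coprime.coprime_dvd_left _ h6
    apply orderOf_dvd_of_pow_eq_one
    rw [← map_pow, inv_pow, hxr', inv_one, map_one]

/-- **`PSU_n(q)`, `n ≥ 4`, one class of elements of prime order `r ≥ 5`** (S4173, S2464, S2452) -/
theorem pp_psu (hF : Fintype.card F = q ^ 2) {n : ℕ} (hn : 4 ≤ n) : Cfsg.Agent.H494.TC.PP (PSU n F q) := by
  have hB := hs_herm hF n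
  have hfr : finrank F (Fin n → F) = n := Module.finrank_fin_fun F
  obtain ⟨r, x₀, hr, hr5, hxr, ⟨u₀, hu₀, hreal⟩, hc⟩ := exists_cov hB (m := n / 2) (by omega) (by rw [hfr]; omega)
  obtain ⟨x, hx, h⟩ := pair_of_cov hc
  obtain ⟨u₀, rfl⟩ := exists_psi hu₀
  have hxu : x⁻¹ = u₀ * x * u₀⁻¹ := by
    apply psi_injective (F := F) (q := q) n
    rw [map_inv, hx, hreal, map_mul, map_mul, map_inv, hx]
  have h6 : Nat.Coprime r 6 := by
    rw [Nat.Prime.coprime_iff_not_dvd hr]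
    intro hd
    have h1 := Nat.le_of_dvd (by norm_num) hd
    interval_cases r
    · omega
    · exact absurd hr (by norm_num)
  have hxr' : x ^ r = 1 := by
    apply psi_injective (F := F) (q := q) n
    rw [map_pow, hx, hxr, map_one]
  -- the order
  have hx1 : pr n F q x ≠ 1 := by
    intro h1
    -- some nonidentity element
    have h2 : ∀ g : PSU n F q, g = 1 := by
      intro g
      by_contra hg
      obtain ⟨u, v, e⟩ := h g hg
      apply hg
      rw [e, map_inv, h1]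
      group
    haveI : IsSimpleGroup (PSU n F q) := Cfsg.Agent.S0283.result hF n (by omega) (by omega)
    obtain ⟨g, hg⟩ := exists_ne (1 : PSU n F q)
    exact hg (h2 g)
  have hord : orderOf (pr n F q x) = r := by
    have h1 : orderOf (pr n F q x) ∣ r := by
      apply orderOf_dvd_of_pow_eq_one
      rw [← map_pow, hxr', map_one]
    exact ((Nat.dvd_prime hr).1 h1).resolve_left fun h2 => hx1 (orderOf_eq_one_iff.1 h2)
  refine ⟨pr n F q x, by rw [hord]; exact hr, by rw [hord]; exact h6, fun g hg => ?_⟩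
  obtain ⟨u, v, e⟩ := h g hg
  refine ⟨u, v * pr n F q u₀, ?_⟩
  rw [e, hxu]
  simp only [map_mul, map_inv]
  group

/-- the same -/
theorem row3_psu (hF : Fintype.card F = q ^ 2) {n : ℕ} (hn : 4 ≤ n) : Cfsg.Agent.H210.TC.Row3 (PSU n F q) := by
  obtain ⟨x, hx, hx6, h⟩ := pp_psu hF hn
  exact Cfsg.Agent.H210.TC.Row3.of_sq hx hx6 h

/-- **the row `PSU_n(q)`** -/
theorem tc_psu (hF : Fintype.card F = q ^ 2) {n : ℕ} (hn : 3 ≤ n) (h32 : ¬ (n = 3 ∧ q = 2)) : TC (PSU n F q) := by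
  rcases hn.eq_or_lt with rfl | hn4
  · have hq := LieClassical.HermBasic.two_le hF
    obtain ⟨x₀, hc⟩ := exists_cov_three (hs_herm hF 3) (by
      by_contra hcon
      exact h32 ⟨rfl, by omega⟩) (Module.finrank_fin_fun F)
    obtain ⟨x, -, h⟩ := pair_of_cov hc
    exact ⟨_, _, h⟩
  · obtain ⟨x, y, -, -, h⟩ := tc6_psu hF hn4
    exact ⟨x, y, h⟩

end grp

end Cfsg.Agent.H950.TC
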