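import Cfsg.Agent.H950.TC.Psu

/-!
# `PSU_3(q)`, one class of elements of prime order `r ≥ 5`, `r ∣ q - 1` (helper950; S4173, S2464, S2452)
-/

set_option autoImplicit false
set_option linter.unusedSectionVars false

namespace Cfsg.Agent.H950.TC

open Cfsg Module Polynomial Cfsg.Agent.H951 Matrix Cfsg.Agent.H98.Ore Cfsg.Agent.H950.War Cfsg.Agent.H951.OreU
  Cfsg.Agent.H984.Ore
open Cfsg.Agent.LieClassical.HermBasic
open Cfsg.Agent.H140.TC (TC)

section geo

variable {F V : Type*} [Field F] [Fintype F] [AddCommGroup V] [Module F V] [FiniteDimensional F V]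
  {q : ℕ} {σ : F →+* F} {B : V → V → F}

/-- `n = 3`, a real Levi element with eigenvalue `x`, `σ x = x`, `x ^ r = 1` -/
theorem cov_three_real (hB : HS q σ B) (hn : finrank F V = 3) {x : F} (hx0 : x ≠ 0) (hσ : σ x = x)
    (hxx : x * x ≠ 1) (hx1' : x ≠ 1) {r : ℕ} (hxr : x ^ r = 1) :
    ∃ x₀ : V ≃ₗ[F] V, x₀ ^ r = 1 ∧ (∃ u ∈ SGr B, x₀⁻¹ = u * x₀ * u⁻¹) ∧ Cov B x₀ := by
  have hcopx : IsCoprime (X - C x : F[X]) ((X - C x : F[X]).map σ).reverse := by
    have h1 : ((X - C x : F[X]).map σ).reverse = C (-x) * (X - C x⁻¹) := by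
      rw [Polynomial.map_sub, Polynomial.map_X, Polynomial.map_C, hσ]
      ext i
      rw [Polynomial.coeff_reverse, Polynomial.natDegree_X_sub_C, Polynomial.coeff_C_mul, Polynomial.coeff_sub,
        Polynomial.coeff_sub]
      rcases i with _ | _ | i
      · rw [Polynomial.revAt_le (by omega)]
        simp [hx0]
      · rw [Polynomial.revAt_le (by omega)]
        simp
      · rw [Polynomial.revAt_eq_self_of_lt (by omega)]
        simp [Polynomial.coeff_X]
    rw [h1]
    have h2 : IsUnit (C (-x) : F[X]) := Polynomial.isUnit_C.2 (isUnit_iff_ne_zero.2 (neg_ne_zero.2 hx0))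
    rw [isCoprime_mul_unit_left_right h2]
    apply Polynomial.isCoprime_X_sub_C_of_isUnit_sub
    rw [isUnit_iff_ne_zero, sub_ne_zero]
    intro h3
    apply hxx
    nth_rw 1 [h3]
    exact inv_mul_cancel₀ hx0
  have hev : (X - C x : F[X]).eval (σ x * x⁻¹) ≠ 0 := by
    rw [Polynomial.eval_sub, Polynomial.eval_X, Polynomial.eval_C, hσ, mul_inv_cancel₀ hx0]
    intro h1
    exact hx1' (sub_eq_zero.1 h1).symm
  -- diagonal matrices with one entry
  have hdet : ∀ {ι : Type} [Fintype ι] [DecidableEq ι], Fintype.card ι = 1 →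
      (Matrix.diagonal (fun _ : ι => x)).det = x := by
    intro ι _ _ h1
    rw [Matrix.det_diagonal, Finset.prod_const, Finset.card_univ, h1, pow_one]
  have hcp : ∀ {ι : Type} [Fintype ι] [DecidableEq ι], Fintype.card ι = 1 →
      (Matrix.diagonal (fun _ : ι => x)).charpoly = X - C x := by
    intro ι _ _ h1
    rw [Matrix.charpoly_diagonal, Finset.prod_const, Finset.card_univ, h1, pow_one]
  have hne' : finrank F V = 2 * Fintype.card (Fin 1) + 1 := by rw [Fintype.card_fin, hn]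
  obtain ⟨v, v', hv⟩ := exists_fr 1 hB (by omega)
  have hf1 : Fintype.card (Fin 1) = 1 := Fintype.card_fin 1
  obtain ⟨Z, hZ⟩ : ∃ Z : Matrix (Fin 1) (Fin 1) F, Z = Matrix.diagonal (fun _ : Fin 1 => x) := ⟨_, rfl⟩
  have hZd : Z.det = x := by rw [hZ, hdet hf1]
  have hZc : Z.charpoly = X - C x := by rw [hZ, hcp hf1]
  have hZ0 : Z.det ≠ 0 := by rw [hZd]; exact hx0
  obtain ⟨x₀, hxm, hxw, hxw'⟩ := exists_lev hB le_rfl hne' hv hZ0 (fun h => absurd h one_ne_zero)
  have hZr : Z ^ r = 1 := by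
    rw [hZ, Matrix.diagonal_pow]
    simp only [Pi.pow_def, hxr]
    exact Matrix.diagonal_one
  refine ⟨x₀, ?_, ?_, hxm, fun g hg hs => ?_⟩
  · refine fix_one hB le_rfl hne' hv ((SGr B).pow_mem hxm r) (fun j => ?_) (fun j => ?_)
    · rw [pow_frame hxw, hZr]
      simp only [Matrix.one_apply, ite_smul, one_smul, zero_smul, Finset.sum_ite_eq', Finset.mem_univ, if_true]
    · rw [pow_frame hxw', ← ist_pow hB, hZr, ist_one hB]
      simp only [Matrix.one_apply, ite_smul, one_smul, zero_smul, Finset.sum_ite_eq', Finset.mem_univ, if_true]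
  · -- `x₀` is real
    have hZu : IsUnit Z.det := isUnit_iff_ne_zero.2 hZ0
    have hinv : ∀ {w : Fin 1 → V} {Y : Matrix (Fin 1) (Fin 1) F}, IsUnit Y.det → (∀ j, x₀ (w j) = ∑ i, Y i j • w i) →
        ∀ j, x₀⁻¹ (w j) = ∑ i, Y⁻¹ i j • w i := by
      intro w Y hY hw j
      have h1 : x₀ (∑ i, Y⁻¹ i j • w i) = w j := by
        rw [map_sum]
        simp only [map_smul, hw, Finset.smul_sum, smul_smul]
        rw [Finset.sum_comm]
        simp only [← Finset.sum_smul]
        have h2 : ∀ i, ∑ k, Y⁻¹ k j * Y i k = if i = j then 1 else 0 := by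
          intro i
          have h3 := congrFun (congrFun (Matrix.mul_nonsing_inv Y hY) i) j
          rw [Matrix.mul_apply, Matrix.one_apply] at h3
          rw [← h3]
          exact Finset.sum_congr rfl fun k _ => mul_comm _ _
        simp only [h2, ite_smul, one_smul, zero_smul, Finset.sum_ite_eq', Finset.mem_univ, if_true]
      conv_lhs => rw [← h1]
      exact x₀.symm_apply_apply _
    have hd1 : (ist σ Z).det ≠ 0 := by
      rw [det_ist, map_inv₀]
      exact inv_ne_zero ((map_ne_zero σ).2 hZ0)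
    have h1 : (ist σ Z)⁻¹ = (σ.mapMatrix Z)ᵀ := by
      have h2 : ist σ Z = (σ.mapMatrix Z⁻¹)ᵀ := by ext i j; rfl
      apply Matrix.inv_eq_right_inv
      rw [h2, ← Matrix.transpose_mul, ← map_mul, Matrix.mul_nonsing_inv _ hZu, map_one, Matrix.transpose_one]
    have h3 : ((ist σ Z)⁻¹).charpoly = Z.charpoly := by
      rw [h1, Matrix.charpoly_transpose, RingHom.mapMatrix_apply, Matrix.charpoly_map, hZc, Polynomial.map_sub,
        Polynomial.map_X, Polynomial.map_C, hσ]
    have hlv : Lv B v' v (ist σ Z)⁻¹ x₀⁻¹ :=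
      ⟨hv.swap hB, (SGr B).inv_mem hxm, hinv (isUnit_iff_ne_zero.2 hd1) hxw'⟩
    obtain ⟨u, hu, hxu⟩ := conj_fin hB le_rfl one_pos (by omega) hlv ⟨hv, hxm, hxw⟩
      (by rw [hZc]; exact Polynomial.irreducible_X_sub_C x) (by rw [hZc]; simpa using hx0) h3
      (by rw [hZc]; exact hcopx) (fun _ => by rw [hZc, hZd]; exact hev)
    refine ⟨u⁻¹, (SGr B).inv_mem hu, ?_⟩
    conv_rhs => rw [hxu]
    group
  · have hgi : Isom B (g : End F V) := (mem_SGr.1 hg).1
    obtain ⟨w, hw, hgw⟩ := exists_typeI hB hgi hs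
    obtain ⟨U, g₁, b, h⟩ := exists_step hB hgi hw hgw
    obtain ⟨hU, hfr⟩ := Step.hs hB hgi h
    obtain ⟨R, -, hR⟩ := Cfsg.Agent.H24.Ore.cor_step_odd hB hgi h (κ := Empty) (P₁ := 0)
      (by rw [Fintype.card_empty]; omega)
      ⟨Empty.elim, Empty.elim, ⟨fun i => i.elim, fun i => i.elim, fun i => i.elim⟩, fun i => i.elim⟩ 1
    have hP : Matrix.fromBlocks (Matrix.of fun (_ _ : Unit) => (1 : F)) R 0 (0 : Matrix Empty Empty F) = 1 := by
      ext i j
      rcases i with i | i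
      · rcases j with j | j
        · rw [Matrix.fromBlocks_apply₁₁, Subsingleton.elim j i, Matrix.one_apply_eq]
          rfl
        · exact j.elim
      · exact i.elim
    rw [hP] at hR
    have hu1 : Fintype.card (Unit ⊕ Empty) = 1 := rfl
    obtain ⟨w, w', y, hy, a, ha, b, hb, hG⟩ := criterionC hB hg (ι := Unit ⊕ Empty) (Or.inr (by rw [hn]; rfl)) (P := 1)
      (Z := Matrix.diagonal (fun _ : Unit ⊕ Empty => x)) (h := 1) hR
      (by rw [one_mul, mul_one]) Matrix.det_one (by rw [hdet hu1]; exact hx0) (fun h2 => by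
        exfalso
        rw [hn, hu1] at h2
        omega) (by rw [hcp hu1]; exact hcopx) (by rw [hcp hu1, hdet hu1]; exact hev)
    obtain ⟨u, hu, hxu⟩ := conj_any hB le_rfl one_pos (by omega) hu1 hy ⟨hv, hxm, hxw⟩
      (by rw [hZc]; exact Polynomial.irreducible_X_sub_C x) (by rw [hZc]; simpa using hx0)
      (by rw [hZc, hcp hu1]) (by rw [hZc]; exact hcopx) (fun _ => by rw [hZc, hZd]; exact hev)
    refine ⟨a * u⁻¹, (SGr B).mul_mem ha ((SGr B).inv_mem hu), b * u⁻¹, (SGr B).mul_mem hb ((SGr B).inv_mem hu), ?_⟩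
    rw [hG, hxu]
    group

end geo

section grp

open Cfsg.Agent.ClassicalGeometry.PSUAutBasic (pr pr_surjective pr_eq_one_iff)

universe u

variable {F : Type u} [Field F] [Fintype F] {q : ℕ}

/-- **passage to `PSU` in the strong form** -/
theorem pp_of_cov (hF : Fintype.card F = q ^ 2) {n : ℕ} (hn : 3 ≤ n) (h32 : ¬ (n = 3 ∧ q = 2))
    {x₀ : (Fin n → F) ≃ₗ[F] (Fin n → F)} {r : ℕ} (hr : r.Prime) (hr5 : 5 ≤ r) (hxr : x₀ ^ r = 1)
    (hre : ∃ u ∈ SGr (hermForm n F q), x₀⁻¹ = u * x₀ * u⁻¹) (hc : Cov (hermForm n F q) x₀) :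
    Cfsg.Agent.H494.TC.PP (PSU n F q) := by
  obtain ⟨u₀, hu₀, hreal⟩ := hre
  obtain ⟨x, hx, h⟩ := pair_of_cov hc
  obtain ⟨u₀, rfl⟩ := exists_psi hu₀
  have hxu : x⁻¹ = u₀ * x * u₀⁻¹ := by
    apply psi_injective (F := F) (q := q) n
    rw [map_inv, hx, hreal, map_mul, map_mul, map_inv, hx]
  have h6 : Nat.Coprime r 6 := by
    rw [Nat.Prime.coprime_iff_not_dvd hr]
    intro hd
    have h1 := Nat.le_of_dvd (by norm_num) hd
    interval_cases r
    · omega
    · exact absurd hr (by norm_num)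
  have hxr' : x ^ r = 1 := by
    apply psi_injective (F := F) (q := q) n
    rw [map_pow, hx, hxr, map_one]
  -- the order
  have hx1 : pr n F q x ≠ 1 := by
    intro h1
    -- some nonidentity element
    have h2 : ∀ g : PSU n F q, g = 1 := by
      intro g
      by_contra hg
      obtain ⟨u, v, e⟩ := h g hg
      apply hg
      rw [e, map_inv, h1]
      group
    haveI : IsSimpleGroup (PSU n F q) := Cfsg.Agent.S0283.result hF n hn h32
    obtain ⟨g, hg⟩ := exists_ne (1 : PSU n F q)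
    exact hg (h2 g)
  have hord : orderOf (pr n F q x) = r := by
    have h1 : orderOf (pr n F q x) ∣ r := by
      apply orderOf_dvd_of_pow_eq_one
      rw [← map_pow, hxr', map_one]
    exact ((Nat.dvd_prime hr).1 h1).resolve_left fun h2 => hx1 (orderOf_eq_one_iff.1 h2)
  refine ⟨pr n F q x, by rw [hord]; exact hr, by rw [hord]; exact h6, fun g hg => ?_⟩
  obtain ⟨u, v, e⟩ := h g hg
  refine ⟨u, v * pr n F q u₀, ?_⟩
  rw [e, hxu]
  simp only [map_mul, map_inv]
  group

/-- **`PSU_3(q)`, `r ∣ q - 1`** -/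
theorem pp_psu_three (hF : Fintype.card F = q ^ 2) {r : ℕ} (hr : r.Prime) (h5 : 5 ≤ r) (hd : r ∣ q - 1) :
    Cfsg.Agent.H494.TC.PP (PSU 3 F q) := by
  have hB := hs_herm hF 3
  have hq := LieClassical.HermBasic.two_le hF
  have hq3 : 3 ≤ q := by
    have := Nat.le_of_dvd (by omega) hd
    omega
  obtain ⟨η, hη⟩ := IsCyclic.exists_generator (α := Fˣ)
  have hηord : orderOf η = q ^ 2 - 1 := by
    rw [orderOf_eq_card_of_forall_mem_zpowers hη, Nat.card_units, Nat.card_eq_fintype_card, hF]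
  have hq2 : q ^ 2 - 1 = (q - 1) * (q + 1) := by
    obtain ⟨r, rfl⟩ : ∃ r, q = r + 1 := ⟨q - 1, by omega⟩
    have : (r + 1) ^ 2 = r * (r + 1 + 1) + 1 := by ring
    rw [this]; simp
  obtain ⟨t, ht⟩ := hd
  have ht0 : t ≠ 0 := by
    rintro rfl
    omega
  -- an element of order `r`
  have hpos : t * (q + 1) ≠ 0 := mul_ne_zero ht0 (by omega)
  have hord : orderOf (η ^ (t * (q + 1))) = r := by
    have h1 : q ^ 2 - 1 = t * (q + 1) * r := by rw [hq2, ht]; ring
    rw [orderOf_pow' η hpos, hηord, h1, Nat.gcd_eq_right (Dvd.intro _ rfl),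
      Nat.mul_div_cancel_left _ (Nat.pos_of_ne_zero hpos)]
  obtain ⟨y, hy⟩ : ∃ y : Fˣ, y = η ^ (t * (q + 1)) := ⟨_, rfl⟩
  rw [← hy] at hord
  have hk : ∀ k : ℕ, (y : F) ^ k = 1 → r ∣ k := by
    intro k hk
    rw [← hord]
    apply orderOf_dvd_of_pow_eq_one
    apply Units.ext
    rw [Units.val_pow_eq_pow_val, hk, Units.val_one]
  have hyr : (y : F) ^ r = 1 := by
    rw [← hord, ← Units.val_pow_eq_pow_val, pow_orderOf_eq_one, Units.val_one]
  obtain ⟨x₀, hxr, hre, hc⟩ := cov_three_real hB (Module.finrank_fin_fun F) (x := (y : F)) y.ne_zero (by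
      rw [hB.sig]
      have h1 : (y : F) ^ (q - 1) = 1 := by rw [ht, pow_mul, hyr, one_pow]
      calc (y : F) ^ q = (y : F) ^ (q - 1 + 1) := by rw [Nat.sub_add_cancel (by omega)]
        _ = y := by rw [pow_succ, h1, one_mul]) (by
      intro h1
      have h2 := hk 2 (by rw [pow_two]; exact h1)
      have := Nat.le_of_dvd (by norm_num) h2
      omega) (by
      intro h1
      have h2 := hk 1 (by rw [pow_one]; exact h1)
      have := Nat.le_of_dvd (by norm_num) h2
      omega) hyr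
  exact pp_of_cov hF le_rfl (by omega) hr h5 hxr hre hc

end grp

end Cfsg.Agent.H950.TC
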